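import Cfsg.Agent.J4Rep94.C20.Data

/-!
# Certificate data
-/

set_option autoImplicit false
set_option maxRecDepth 100000

namespace Cfsg.Agent.J4Rep94.C20

open Cfsg.Agent.CosetEnum

def fv0 : ℕ := 0x100003000050019c001660016400162001600015e0015c0015a001a000192001900018e0018c0018a001a200196001a5000310003300016000760007400072000700006e0006c0006a00068000660006400062000600005e0005c0005a00058000560005400052000500004e0004c0004a00048000460004400042000400003e0003c0003a000380003600034000220001a000060002e00001001940000100017000030018b0018d0018f0019100193001a10015b0015d0015f001610016300165001670019e000090000b0000d0000f00011000130001400196001940002c0002a00028000260002400022000200001e0001c0001a0001800016000140000f0000a000050015b0015d0015f001610016300165001670019e0000800192001900018e0018c0018a00188001860018400182001800017e0017c0017a00178001760017400172001700016e0016c0016a001680007c0007a0000c0000a000080001b00004000040019d0000100006000010000300003000040000200002001660016400162001600015e0015c0015a00158001560015400152001500014e0014c0014a00148001460014400142001400013e0013c0013a00138001360013400132001300012e0012c0012a00128001260012400122001200011e0011c0011a001180011600114001120011000107001090010b0010d0010f0019b0019900078000010003500001000020019900078000020010e0010c0010a0010800106001040010200100000fe000fc000fa000f8000f6000f4000f2000f0000ee000ec000ea000e8000e6000e4000e2000e00008400082000800007e00008000060000400002000000002100000000010007800001000de000dc000da000d8000d6000d4000d2000d0000ce000cc000ca000c8000c6000c4000c2000c0000be000bc000ba000b8000b6000b4000b2000b0000ae000ac000aa000a8000a6000a4000a2000a00009e0009c0009a00098000960009400092000900008e0008c0008a00088000860008400082000800007e0000800006000040000200000000360000000000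
theorem fok0 : sys.checkFacts 204 8 fv0 = true := by decide +kernel


end Cfsg.Agent.J4Rep94.C20
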