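import Cfsg.Agent.J4Rep94.P7
import Cfsg.Agent.J4Rep94.Orbit

/-!
# Certificate data
-/

set_option autoImplicit false
set_option maxRecDepth 100000

namespace Cfsg.Agent.J4Rep94.C20

open Cfsg.Agent.CosetEnum

def fxL0 : ℕ := 0x1800000001e04000600032c20018a001982000ad000ca08005a00002040000c002d04000e00011000003d0007000006600065840032c0005c000194001921000c9000c800006400063880031c0031800018c0018a2000c5000c400006200061840030c00308000184001822000c1000c00000600005f84002fc002f800017c0017a1000bd000bc00005e0005d88002ec002e8000174001721000b9000b800005c0005b84002dc002d800016c0016a2000b50003f00005a0005988002cc002c8000164001621000b1000b00000580005788002bc002b800015c0015a1000ad000ac0000560005584002ac002a8000154001522000a9000a800005400053840029c0029800014c0014a2000a5000a400005200051840028c00288000144001422000a1000a00000500004f840027c0027800013c0013a10009d0009c00004e0004d880026c00268000134001321000990009800004c0004b880025c0025800012c0012a1000950009400004a00049880024c00248000124001221000910009000004800047840023c0023800011c0011a20008d0008c00004600045840022c002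28000114001122000890008300004400043840021c0021800010c0010a2000850008400004200041880020c0020800010400102100081000800000400003f88001fc001f80000fc000fa20007d0007c00003e0003d84001ec001e80000f4000f22000790007800003c0003b84001dc001d80000ec000ea1000750007400003a0003988001cc001c80000e4000e2100071000430800380003780001bc001b84000dc000da00006d0006c0800360003580001ac001a84000d4000d20000690006808003400033800019c001982000cc000ca0000650006410003200031800018c001882000c4000c2000061000601000300002f800017c001782000bc000ba00005d0005c10002e0002d800016c001682000b4000b20000590005808002c0002b800015c001584000ac000aa0000550005408002a00029800014c001484000a4000a20000510005008002800027800013c0013840009c0009a00004d0004c08002600025800012c00128200094000920000490004810002400023800011c0011820008c0008a0000450004410002200021800010c0010820008400082000041000401000200000280000fc000f820007c0000e10003d0000010001e0001d80000ec000e8200074000720000390003808001c0001b80000dc000d840006c0006a0000350003408001a0001980000cc000c840006400062000031000300800180001780000bc000b840005c0005a00002d0002c0800160001580000ac000a8200054000520000290002810001400013800009c0009820004c0004a0000250002410001200011800008c0008820004400042000021000201000100000f800007c0007820003c0003a00001d0001c08000e0000d800006c00068400034000320000190001810000c0000b800005c0005840002c0002a0000150001408000a00009800004c00048200024000220000110001010000800007800003c0003820001c0001a00000d0000c08000600005800002c00028400014000120000090000810000400003800001c0001820000c0000a0000050000408000200001800000c000082000040000200000100000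
def fx : PTree := (.leaf fxL0)
def rules0 : DTree Rule := (.node 3 (.node 1 (.leaf ⟨0, [0,1,0,1,0,2,0,1,0,2,0,1,0,2,0,1,0,1,0,2,0,1,0,2,0,1,0,2,0,1,0,1,0,2,0,1,0,2,0,1,0,2,0,1,0,1,0,2,0,1,0,2,0,1], [1], false, 7, 0⟩) (.node 1 (.leaf ⟨2, [0,1,0,1,0,2,0,1,0,1,0,2,0,1,0,1,0,2,0,1,0,2,0,2,0,1,0,2,0,2,0,1,0], [1,0], false, 8, 0⟩) (.leaf ⟨1, [0,1,0,1,0,2,0,1,0,2,0,1,0,2,0,1,0,1,0,2,0,1,0,2,0,1,0,2,0,1,0,1,0,2,0,1,0,2,0,1,0,2,0,1,0,1,0,2,0,1,0,2,0], [1,0], false, 7, 0⟩))) (.node 2 (.node 1 (.leaf ⟨1, [1], [2], false, 3, 0⟩) (.leaf ⟨2, [0,1,0,1,0,2,0,1,0,1,0,2,0,1,0,1,0,2,0,1,0,2,0,2,0,1,0], [1,0,1,0,2,0,1,0], false, 8, 0⟩)) (.node 1 (.leaf ⟨1, [0,1,0,1,0,2,0,1,0,1,0,2,0,1,0], [1,0,1,0,2,0,1,0,1,0,2,0,1,0,1,0,2,0,1,0], false, 8, 0⟩) (.leaf ⟨3, [0,1,0,1,0,2,0,1,0,2,0,1,0,2,0,1,0,1,0,2,0,1,0,2,0,1,0,2,0,1,0,1,0,2], [1,0,2,0,1,0,2,0,1,0,2,0,2,0,1,0,2,0,1,0,2,0], false, 7, 0⟩))))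
def rules : DTree Rule := rules0
def sys : Sys := ⟨3, 0x18440, fx, rules⟩
def rels : List (List ℕ) := baseRels ++ []
def subs : List (List ℕ) := []

end Cfsg.Agent.J4Rep94.C20
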